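import Groth.Agent.EGA43.K124.FibreDims
import Groth.Agent.Ega4fib.H169.EquidimAtPoints
import Groth.Agent.Ega4fib.H172.RelClosure
import Groth.Agent.Ega43.OpenAt
import Groth.Agent.Ega43.UnivOpenAt
import Groth.Agent.S1333

/-!
# Local constancy of fibre dimensions for open morphisms

* `mem_nhds_of_isLocallyConstructible`: a locally constructible set containing all generizations of `y` is a
  neighbourhood of `y`.
* `isLocallyConstructible_mem_dims`: the points `s` such that `X_s` has a component of dimension `n`.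
* `dim_const`, `dims_const`: for an open morphism of finite type over a locally Noetherian base.
-/

set_option autoImplicit false
universe u
open CategoryTheory AlgebraicGeometry TopologicalSpace Limits Topology
open Groth.Agent.CycB.RelDim Groth.Agent.Flat2D.RelDimClosure
open Groth.Agent.Ega4fib.H174.Equidim Groth.Agent.Ega4fib.H174.EquidimCrit Groth.Agent
open Groth.Agent.Ega4fib.H172.FibDimBC Groth.Agent.Ega4fib.H172.FibDimConstr

namespace K124.ConstFibre

variable {X Y : Scheme.{u}}

theorem mem_nhds_of_isLocallyConstructible {E : Set Y} (hE : IsLocallyConstructible E) {y : Y}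
    (h : ∀ z : Y, z ⤳ y → z ∈ E) : E ∈ nhds y := by
  by_contra hn
  have h1 : y ∈ closure Eᶜ := by
    rw [closure_compl]
    exact fun hi => hn (mem_interior_iff_mem_nhds.1 hi)
  obtain ⟨z, hz, hzy⟩ := Groth.Agent.Ega43.OpenAt.exists_specializes_of_isLocallyConstructible
    (isLocallyConstructible_compl hE) h1
  exact hz (h z hzy)

/-- The points of `X` all of whose maximal generizations in the fibre have `rtd = n`. -/
def eqLocus (f : X ⟶ Y) (n : ℕ) : Set X :=
  {x : X | FlatMor.fibreDimAt f x = n} ∩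
    {x : X | ∃ z ∈ {z : X | FlatMor.fibreDimAt f z < n}, f z = f x ∧ z ⤳ x}ᶜ

theorem mem_eqLocus_iff (f : X ⟶ Y) [LocallyOfFiniteType f] (n : ℕ) (x : X) :
    x ∈ eqLocus f n ↔ ∀ z : X, z ⤳ x → f z = f x → FibGeneric f z → rtd f z = n :=
  (Groth.Agent.Ega4fib.H169.EquidimAtPoints.forall_rtd_eq_iff f x n).symm

theorem isLocallyConstructible_eqLocus (f : X ⟶ Y) [LocallyOfFinitePresentation f] (n : ℕ) :
    IsLocallyConstructible (eqLocus f n) :=
  (isLocallyConstructible_fibreDimAt_eq f n).inter
    (isLocallyConstructible_compl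
      (Groth.Agent.Ega4fib.H172.RelClosure.isLocallyConstructible_relClosure f
        (isLocallyConstructible_fibreDimAt_lt f n)))

theorem image_eqLocus (f : X ⟶ Y) [LocallyOfFiniteType f] (n : ℕ) :
    f '' eqLocus f n = {s : Y | (n : WithBot ℕ∞) ∈
      (fun Z : Set ↥(f.fiber s) => topologicalKrullDim ↥Z) '' irreducibleComponents ↥(f.fiber s)} := by
  ext s
  rw [Set.mem_ofPred_eq, K124.FibreDims.mem_dims_iff]
  constructor
  · rintro ⟨x, hx, rfl⟩
    rw [mem_eqLocus_iff] at hx
    obtain ⟨z, hz, hfz, hgz, m, hm, -⟩ := exists_fibGeneric_rtd_eq f x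
    refine ⟨z, n, hfz, fun z' h1 h2 => hgz z' h2 h1, hx z hz hfz hgz, rfl⟩
  · rintro ⟨z, m, rfl, hmax, hm, hnm⟩
    have hnm' : n = m := by exact_mod_cast hnm
    subst hnm'
    refine ⟨z, (mem_eqLocus_iff f n z).2 fun w hw hfw _ => ?_, rfl⟩
    rw [hmax w hw hfw, hm]

/-- The set of points whose fibre has an irreducible component of dimension `n` is locally constructible. -/
theorem isLocallyConstructible_mem_dims (f : X ⟶ Y) [LocallyOfFinitePresentation f] [QuasiCompact f]
    (n : ℕ) : IsLocallyConstructible {s : Y | (n : WithBot ℕ∞) ∈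
      (fun Z : Set ↥(f.fiber s) => topologicalKrullDim ↥Z) '' irreducibleComponents ↥(f.fiber s)} := by
  rw [← image_eqLocus]
  exact f.isLocallyConstructible_image (isLocallyConstructible_eqLocus f n)

theorem dim_const [IsLocallyNoetherian Y] (f : X ⟶ Y) [LocallyOfFiniteType f] [QuasiCompact f]
    (hf : IsOpenMap f) (y : Y)
    (h : ∀ η : Y, η ⤳ y → (∀ y' : Y, y' ⤳ η → y' = η) →
      topologicalKrullDim ↥(f.fiber η) ≤ topologicalKrullDim ↥(f.fiber y)) :
    {z : Y | topologicalKrullDim ↥(f.fiber z) = topologicalKrullDim ↥(f.fiber y)} ∈ nhds y := by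
  have hX : IsLocallyNoetherian X := LocallyOfFiniteType.isLocallyNoetherian f
  have : LocallyOfFinitePresentation f :=
    LocallyOfFinitePresentation.iff_locallyOfFiniteType.mpr inferInstance
  have : QuasiSeparated f := inferInstance
  have hop : ∀ x, EGA43.IsOpenAt f x :=
    (Groth.Agent.Ega43.UnivOpenAt.isOpenMap_iff_forall_isOpenAt f).1 hf
  refine mem_nhds_of_isLocallyConstructible (Groth.Agent.S1333.result f _) fun z hz => ?_
  obtain ⟨η, hη, hηz⟩ := exists_maximal_specializes z
  have h1 := K124.FibreDims.dim_fiber_le_of_isOpenAt f hz (fun x _ => hop x)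
  have h2 := K124.FibreDims.dim_fiber_le_of_isOpenAt f hηz (fun x _ => hop x)
  exact le_antisymm (h2.trans (h η (hηz.trans hz) hη)) h1

theorem dims_const [IsLocallyNoetherian Y] (f : X ⟶ Y) [LocallyOfFiniteType f] [QuasiCompact f]
    (hf : IsOpenMap f) (y : Y)
    (h : ∀ η : Y, η ⤳ y → (∀ y' : Y, y' ⤳ η → y' = η) →
      (fun Z : Set ↥(f.fiber η) => topologicalKrullDim ↥Z) '' irreducibleComponents ↥(f.fiber η) ⊆
      (fun Z : Set ↥(f.fiber y) => topologicalKrullDim ↥Z) '' irreducibleComponents ↥(f.fiber y)) :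
    {z : Y | (fun Z : Set ↥(f.fiber z) => topologicalKrullDim ↥Z) '' irreducibleComponents ↥(f.fiber z) =
      (fun Z : Set ↥(f.fiber y) => topologicalKrullDim ↥Z) '' irreducibleComponents ↥(f.fiber y)} ∈
        nhds y := by
  have hX : IsLocallyNoetherian X := LocallyOfFiniteType.isLocallyNoetherian f
  have : LocallyOfFinitePresentation f :=
    LocallyOfFinitePresentation.iff_locallyOfFiniteType.mpr inferInstance
  have hop : ∀ x, EGA43.IsOpenAt f x :=
    (Groth.Agent.Ega43.UnivOpenAt.isOpenMap_iff_forall_isOpenAt f).1 hf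
  -- all the generizations of `y` have the same set of dimensions
  have hgen : ∀ z : Y, z ⤳ y →
      (fun Z : Set ↥(f.fiber z) => topologicalKrullDim ↥Z) '' irreducibleComponents ↥(f.fiber z) =
      (fun Z : Set ↥(f.fiber y) => topologicalKrullDim ↥Z) '' irreducibleComponents ↥(f.fiber y) := by
    intro z hz
    obtain ⟨η, hη, hηz⟩ := exists_maximal_specializes z
    have h1 := K124.FibreDims.dims_subset_of_isOpenAt f hz (fun x _ => hop x)
    have h2 := K124.FibreDims.dims_subset_of_isOpenAt f hηz (fun x _ => hop x)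
    exact Set.Subset.antisymm (h2.trans (h η (hηz.trans hz) hη)) h1
  have h0 := dim_const f hf y fun η hη hmax => by
    refine K124.FibreDims.dim_fiber_le_of_forall f f η y fun z hz hzmax => ?_
    obtain ⟨n, hn⟩ := K124.OpenDim.exists_rtd_eq f z
    have h1 := h η hη hmax ((K124.FibreDims.mem_dims_iff f η n).2 ⟨z, n, hz, hzmax, hn, rfl⟩)
    rw [K124.FibreDims.mem_dims_iff] at h1
    obtain ⟨w, m, hw, -, hm, hnm⟩ := h1
    have hnm' : n = m := by exact_mod_cast hnm
    exact ⟨w, hw, by rw [hn, hm, hnm']⟩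
  obtain ⟨N, hN⟩ : ∃ N : ℕ, topologicalKrullDim ↥(f.fiber y) ≤ N := by
    have h1 := Groth.Agent.S1333.dim_ne_top f y
    generalize topologicalKrullDim ↥(f.fiber y) = a at h1
    induction a using WithBot.recBotCoe with
    | bot => exact ⟨0, bot_le⟩
    | coe a =>
      induction a using ENat.recTopCoe with
      | top => exact absurd rfl h1
      | coe a => exact ⟨a, le_rfl⟩
  have h1 : ∀ n : ℕ, {z : Y | (n : WithBot ℕ∞) ∈
      (fun Z : Set ↥(f.fiber z) => topologicalKrullDim ↥Z) '' irreducibleComponents ↥(f.fiber z) ↔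
      (n : WithBot ℕ∞) ∈
      (fun Z : Set ↥(f.fiber y) => topologicalKrullDim ↥Z) '' irreducibleComponents ↥(f.fiber y)} ∈
        nhds y := by
    intro n
    refine mem_nhds_of_isLocallyConstructible ?_ fun z hz => ?_
    · by_cases hn : (n : WithBot ℕ∞) ∈
        (fun Z : Set ↥(f.fiber y) => topologicalKrullDim ↥Z) '' irreducibleComponents ↥(f.fiber y)
      · convert isLocallyConstructible_mem_dims f n using 1
        ext z
        exact ⟨fun h => h.2 hn, fun h => ⟨fun _ => hn, fun _ => h⟩⟩
      · convert isLocallyConstructible_compl (isLocallyConstructible_mem_dims f n) using 1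
        ext z
        exact ⟨fun h h' => hn (h.1 h'), fun h => ⟨fun h' => absurd h' h, fun h' => absurd h' hn⟩⟩
    · rw [Set.mem_ofPred_eq, hgen z hz]
  have h2 := (Filter.biInter_mem (Set.finite_Iic N)).2 fun n _ => h1 n
  refine Filter.mem_of_superset (Filter.inter_mem h0 h2) ?_
  rintro z ⟨hz1, hz2⟩
  have hz1' : topologicalKrullDim ↥(f.fiber z) = topologicalKrullDim ↥(f.fiber y) := hz1
  ext d
  constructor
  · intro hd
    obtain ⟨w, n, hw, -, hn, rfl⟩ := (K124.FibreDims.mem_dims_iff f z d).1 hd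
    have h3 : (n : WithBot ℕ∞) ≤ N := by
      rw [← hz1'] at hN
      exact ((K124.FibreDims.le_dim_fiber_iff f z n).2 ⟨w, hw, hn.ge⟩).trans hN
    have h4 : n ≤ N := by exact_mod_cast h3
    exact ((Set.mem_iInter₂.1 hz2 n h4).1 hd)
  · intro hd
    obtain ⟨w, n, hw, -, hn, rfl⟩ := (K124.FibreDims.mem_dims_iff f y d).1 hd
    have h3 : (n : WithBot ℕ∞) ≤ N :=
      ((K124.FibreDims.le_dim_fiber_iff f y n).2 ⟨w, hw, hn.ge⟩).trans hN
    have h4 : n ≤ N := by exact_mod_cast h3
    exact ((Set.mem_iInter₂.1 hz2 n h4).2 hd)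

end K124.ConstFibre
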