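import Groth.Agent.EGA43.K124.OpenDim
import Groth.Agent.Ega4fib.H151.DimRtd

/-!
# Dimension of a fibre and dimensions of its components through transcendence degrees

* `dim_fiber_le_iff`, `le_dim_fiber_iff`: `dim X_s` is the supremum of the `rtd f z`, `f z = s`.
* `mem_dims_iff`: `d` is the dimension of an irreducible component of `X_s` iff `d = rtd f z` for a maximal point `z`
  of the fibre.
* `dim_fiber_le_of_isOpenAt`, `dims_subset_of_isOpenAt`: if `f` is open at all points over `y` and `η ⤳ y` then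
  `dim X_y ≤ dim X_η` and the dimensions of components of `X_y` occur for `X_η`.
-/

set_option autoImplicit false
universe u
open CategoryTheory AlgebraicGeometry TopologicalSpace Limits
open Groth.Agent.CycB.RelDim Groth.Agent.CycB.LocQuot Groth.Agent.Flat2D.RelDimClosure
open Groth.Agent.Ega4fib.H174.Equidim Groth.Agent.Ega4fib.H174.EquidimCrit Groth.Agent

namespace K124.FibreDims

variable {X Y : Scheme.{u}}

theorem dim_fiber_le_iff (f : X ⟶ Y) [LocallyOfFiniteType f] (s : Y) (n : ℕ) :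
    topologicalKrullDim ↥(f.fiber s) ≤ n ↔ ∀ z : X, f z = s → rtd f z ≤ n := by
  have : LocallyOfFiniteType (f.fiberToSpecResidueField s) :=
    inferInstanceAs (LocallyOfFiniteType (Limits.pullback.snd f (Y.fromSpecResidueField s)))
  have h := Groth.Agent.Ega4fib.H151.DimRtd.dim_le_iff (k := Y.residueField s)
    (f.fiberToSpecResidueField s) n
  rw [h]
  constructor
  · intro h z hz
    obtain ⟨z, rfl⟩ := exists_fiberι_eq f hz
    rw [← rtd_fiberToSpecResidueField]
    exact h z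
  · intro h z
    rw [rtd_fiberToSpecResidueField]
    exact h _ (fiberι_mem_preimage f s z)

theorem le_dim_fiber_iff (f : X ⟶ Y) [LocallyOfFiniteType f] (s : Y) (n : ℕ) :
    (n : WithBot ℕ∞) ≤ topologicalKrullDim ↥(f.fiber s) ↔
      ∃ z : X, f z = s ∧ (n : Cardinal.{u}) ≤ rtd f z := by
  have : LocallyOfFiniteType (f.fiberToSpecResidueField s) :=
    inferInstanceAs (LocallyOfFiniteType (Limits.pullback.snd f (Y.fromSpecResidueField s)))
  have h := Groth.Agent.Ega4fib.H151.DimRtd.le_dim_iff (k := Y.residueField s)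
    (f.fiberToSpecResidueField s) n
  rw [h]
  constructor
  · rintro ⟨z, hz⟩
    refine ⟨_, fiberι_mem_preimage f s z, ?_⟩
    rwa [← rtd_fiberToSpecResidueField]
  · rintro ⟨z, hz, hn⟩
    obtain ⟨z, rfl⟩ := exists_fiberι_eq f hz
    refine ⟨z, ?_⟩
    rwa [rtd_fiberToSpecResidueField]

theorem withBot_le_of_forall {a b : WithBot ℕ∞} (h : ∀ n : ℕ, (n : WithBot ℕ∞) ≤ a → (n : WithBot ℕ∞) ≤ b) :
    a ≤ b := by
  induction a using WithBot.recBotCoe with
  | bot => exact bot_le
  | coe a =>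
    induction b using WithBot.recBotCoe with
    | bot =>
      have := h 0 (by exact_mod_cast (bot_le : (0 : ℕ∞) ≤ a))
      simp at this
    | coe b =>
      rw [WithBot.coe_le_coe]
      refine ENat.forall_natCast_le_iff_le.1 fun n hn => ?_
      exact_mod_cast h n (by exact_mod_cast hn)

/-- Comparison of the dimensions of two fibres. -/
theorem dim_fiber_le_of_forall {X' Y' : Scheme.{u}} (f : X ⟶ Y) [LocallyOfFiniteType f] (g : X' ⟶ Y')
    [LocallyOfFiniteType g] (s : Y) (t : Y')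
    (h : ∀ z : X, f z = s → (∀ z' : X, z' ⤳ z → f z' = f z → z' = z) →
      ∃ w : X', g w = t ∧ rtd f z ≤ rtd g w) :
    topologicalKrullDim ↥(f.fiber s) ≤ topologicalKrullDim ↥(g.fiber t) := by
  refine withBot_le_of_forall fun n hn => ?_
  rw [le_dim_fiber_iff] at hn ⊢
  obtain ⟨z, hz, hn⟩ := hn
  obtain ⟨c, h1, h2, h3⟩ := exists_maximal_fiber f z
  obtain ⟨w, hw, hle⟩ := h c (h2.trans hz) h3
  exact ⟨w, hw, (hn.trans (VarietyA.LocDim.rtd_le_of_specializes f h1 h2)).trans hle⟩

/-- The dimensions of the irreducible components of a fibre. -/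
theorem mem_dims_iff (f : X ⟶ Y) [LocallyOfFiniteType f] (s : Y) (d : WithBot ℕ∞) :
    d ∈ (fun Z : Set ↥(f.fiber s) => topologicalKrullDim ↥Z) '' irreducibleComponents ↥(f.fiber s) ↔
      ∃ (z : X) (n : ℕ), f z = s ∧ (∀ z' : X, z' ⤳ z → f z' = f z → z' = z) ∧ rtd f z = n ∧ d = n := by
  have key : ∀ z : f.fiber s, ∃ n : ℕ, rtd f (f.fiberι s z) = n ∧
      topologicalKrullDim (closure {z} : Set (f.fiber s)) = n := by
    intro z
    obtain ⟨n, hn, hn'⟩ := exists_dim_closure_inter_fiber f s z ⊤ trivial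
    have h1 : (closure {z} ∩ ((⊤ : (f.fiber s).Opens) : Set (f.fiber s))) = closure {z} := by
      simp
    rw [h1] at hn'
    exact ⟨n, hn, hn'⟩
  constructor
  · rintro ⟨Z, hZ, rfl⟩
    obtain ⟨z, hz, rfl⟩ := mem_irreducibleComponents_iff.mp hZ
    obtain ⟨n, hn, hn'⟩ := key z
    refine ⟨f.fiberι s z, n, fiberι_mem_preimage f s z, fun z' h1 h2 => ?_, hn, hn'⟩
    exact (maximal_fiber_iff f s z).mp hz z' h1 (h2.trans (fiberι_mem_preimage f s z))
  · rintro ⟨z, n, hz, hmax, hn, rfl⟩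
    obtain ⟨z, rfl⟩ := exists_fiberι_eq f hz
    refine ⟨closure {z}, mem_irreducibleComponents_iff.mpr ⟨z, (maximal_fiber_iff f s z).mpr ?_, rfl⟩, ?_⟩
    · intro x' h1 h2
      exact hmax x' h1 (h2.trans hz.symm)
    · obtain ⟨m, hm, hm'⟩ := key z
      rw [hn] at hm
      have : n = m := by exact_mod_cast hm
      rw [this]
      exact hm'

theorem dim_fiber_le_of_isOpenAt [IsLocallyNoetherian Y] (f : X ⟶ Y) [LocallyOfFiniteType f] {y η : Y}
    (hη : η ⤳ y) (h : ∀ x : X, f x = y → EGA43.IsOpenAt f x) :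
    topologicalKrullDim ↥(f.fiber y) ≤ topologicalKrullDim ↥(f.fiber η) := by
  refine dim_fiber_le_of_forall f f y η fun z hz hmax => ?_
  obtain ⟨ζ, -, h2, -, h4⟩ := K124.OpenDim.exists_generization f z hmax (h z hz) η (by rwa [hz])
  exact ⟨ζ, h2, h4.ge⟩

theorem dims_subset_of_isOpenAt [IsLocallyNoetherian Y] (f : X ⟶ Y) [LocallyOfFiniteType f] {y η : Y}
    (hη : η ⤳ y) (h : ∀ x : X, f x = y → EGA43.IsOpenAt f x) :
    (fun Z : Set ↥(f.fiber y) => topologicalKrullDim ↥Z) '' irreducibleComponents ↥(f.fiber y) ⊆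
      (fun Z : Set ↥(f.fiber η) => topologicalKrullDim ↥Z) '' irreducibleComponents ↥(f.fiber η) := by
  intro d hd
  rw [mem_dims_iff] at hd ⊢
  obtain ⟨z, n, hz, hmax, hn, rfl⟩ := hd
  obtain ⟨ζ, -, h2, h3, h4⟩ := K124.OpenDim.exists_generization f z hmax (h z hz) η (by rwa [hz])
  exact ⟨ζ, n, h2, h3, h4.trans hn, rfl⟩

end K124.FibreDims
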