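import Mathlib.RingTheory.Flat.EquationalCriterion
import Mathlib.LinearAlgebra.TensorProduct.RightExactness
import Mathlib.LinearAlgebra.TensorProduct.Quotient
import Mathlib.RingTheory.Noetherian.Nilpotent
import Groth.Agent.FlatA.NilpotentFree
import Groth.Agent.Flat2C.FreeQuot
import Groth.Agent.FlatA.Model

/-!
# Flattening of a module which is generically free modulo a nilpotent ideal

* `mem_smul_of_flat`: kernels of surjections onto flat modules are pure.
* `exists_flattening_nilpotent`: `I` nilpotent and `M / I M` free over `R / I`: there is an ideal `J ≤ I` such that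
  `A' ⊗ M` is flat over `A'` iff `J A' = 0`.
* `exists_flattening`: `A` with irreducible spectrum, `B` of finite presentation over `A`, `N` of finite presentation over `B`:
  there are `h` not nilpotent and a finitely generated `J ≤ nilradical A` such that, for `A'` over `A` with `h` invertible in
  `A'`, `A' ⊗ N` is flat iff `J A' = 0`.
-/

set_option autoImplicit false
universe u
open TensorProduct

namespace K124.FlatNil

open Groth.Agent

/-- kernels of surjections onto flat modules are pure -/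
theorem mem_smul_of_flat {R F M : Type*} [CommRing R] [AddCommGroup F] [Module R F] [AddCommGroup M] [Module R M]
    [Module.Flat R M] (φ : F →ₗ[R] M) (hφ : Function.Surjective φ) (I : Ideal R) {x : F} (hx : φ x = 0)
    (hxI : x ∈ I • (⊤ : Submodule R F)) : x ∈ I • LinearMap.ker φ := by
  classical
  have h0 : (⊤ : Submodule R F) = Submodule.span R (Set.range (id : F → F)) := by simp
  rw [h0, Submodule.mem_ideal_smul_span_iff_exists_sum] at hxI
  obtain ⟨a, ha, rfl⟩ := hxI
  have h1 : ∑ i : a.support, a i • φ i = 0 := by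
    rw [← hx, map_finsuppSum, Finsupp.sum]
    exact (Finset.sum_coe_sort a.support (fun i => a i • φ i)).trans (Finset.sum_congr rfl fun i _ => by simp)
  obtain ⟨k, b, y, hy, hb⟩ := Module.Flat.isTrivialRelation_of_sum_smul_eq_zero h1
  choose g hg using fun j => hφ (y j)
  have h2 : a.sum (fun i c => c • id i) = ∑ i : a.support, a i • ((i : F) - ∑ j, b i j • g j) := by
    have h3 : ∑ i : a.support, a i • (∑ j, b i j • g j) = 0 := by
      simp only [Finset.smul_sum, smul_smul]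
      rw [Finset.sum_comm]
      refine Finset.sum_eq_zero fun j _ => ?_
      rw [← Finset.sum_smul, hb j, zero_smul]
    simp only [smul_sub, Finset.sum_sub_distrib, h3, sub_zero]
    rw [Finsupp.sum, ← Finset.sum_coe_sort]
    rfl
  rw [h2]
  refine Submodule.sum_mem _ fun i _ => Submodule.smul_mem_smul (ha i) ?_
  have h4 : φ (i : F) = ∑ j, b i j • y j := hy i
  rw [LinearMap.mem_ker, map_sub, h4, map_sum, sub_eq_zero]
  exact Finset.sum_congr rfl fun j _ => by rw [map_smul, hg]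

/-- `x ∈ I M` if its image in `R / I ⊗ M` is zero -/
theorem mem_smul_top_of_tmul_eq_zero {R M : Type*} [CommRing R] [AddCommGroup M] [Module R M] (I : Ideal R) {x : M}
    (h : (1 : R ⧸ I) ⊗ₜ[R] x = 0) : x ∈ I • (⊤ : Submodule R M) := by
  have h1 := congrArg (TensorProduct.quotTensorEquivQuotSMul M I) h
  rw [map_zero] at h1
  have h2 := TensorProduct.quotTensorEquivQuotSMul_mk_tmul I (1 : R) x
  rw [map_one, one_smul] at h2
  rw [h2, Submodule.Quotient.mk_eq_zero] at h1
  exact h1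

theorem mem_span_of_baseChange_eq_zero {R F M : Type*} [CommRing R] [AddCommGroup F] [Module R F] [AddCommGroup M]
    [Module R M] (φ : F →ₗ[R] M) (hφ : Function.Surjective φ) (A' : Type*) [CommRing A'] [Algebra R A'] (z : A' ⊗[R] F)
    (hz : φ.baseChange A' z = 0) :
    z ∈ Submodule.span A' {w : A' ⊗[R] F | ∃ x ∈ LinearMap.ker φ, w = 1 ⊗ₜ x} := by
  have h1 : Function.Exact (LinearMap.lTensor A' (LinearMap.ker φ).subtype) (LinearMap.lTensor A' φ) :=
    lTensor_exact A' (LinearMap.exact_subtype_ker_map φ) hφ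
  obtain ⟨w, rfl⟩ := (h1 z).mp hz
  clear hz
  induction w with
  | zero => simp
  | add x y hx hy => rw [map_add]; exact Submodule.add_mem _ hx hy
  | tmul a x =>
    rw [LinearMap.lTensor_tmul]
    have : a ⊗ₜ[R] ((LinearMap.ker φ).subtype x) = a • ((1 : A') ⊗ₜ[R] (x : F)) := by
      rw [TensorProduct.smul_tmul', smul_eq_mul, mul_one]
      rfl
    rw [this]
    exact Submodule.smul_mem _ _ (Submodule.subset_span ⟨x, x.2, rfl⟩)

theorem exists_flattening_nilpotent {R : Type u} [CommRing R] (I : Ideal R) (hI : IsNilpotent I) (M : Type u)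
    [AddCommGroup M] [Module R M] (hfree : Module.Free (R ⧸ I) ((R ⧸ I) ⊗[R] M)) :
    ∃ J : Ideal R, J ≤ I ∧ ∀ (A' : Type u) [CommRing A'] [Algebra R A'],
      Module.Flat A' (A' ⊗[R] M) ↔ J.map (algebraMap R A') = ⊥ := by
  classical
  let b := Module.Free.chooseBasis (R ⧸ I) ((R ⧸ I) ⊗[R] M)
  let ι := Module.Free.ChooseBasisIndex (R ⧸ I) ((R ⧸ I) ⊗[R] M)
  have hsurj : Function.Surjective (TensorProduct.mk R (R ⧸ I) M 1) :=
    TensorProduct.mk_surjective R M (R ⧸ I) Ideal.Quotient.mk_surjective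
  choose v hv using fun i => hsurj (b i)
  let φ : (ι →₀ R) →ₗ[R] M := Finsupp.linearCombination R v
  -- `1 ⊗ φ c = ∑ c_i b_i`
  have hφ1 : ∀ c : ι →₀ R, (1 : R ⧸ I) ⊗ₜ[R] φ c =
      b.repr.symm (c.mapRange (Ideal.Quotient.mk I) (map_zero _)) := by
    intro c
    induction c using Finsupp.induction_linear with
    | zero => simp
    | add c d hc hd => 
      rw [map_add, TensorProduct.tmul_add, hc, hd, Finsupp.mapRange_add (fun x y => map_add (Ideal.Quotient.mk I) x y), map_add]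
    | single i r =>
      rw [Finsupp.mapRange_single, Module.Basis.repr_symm_single, ← hv i]
      simp only [φ, Finsupp.linearCombination_single]
      rw [TensorProduct.mk_apply, TensorProduct.tmul_smul, TensorProduct.smul_tmul', TensorProduct.smul_tmul', smul_eq_mul, mul_one, Algebra.smul_def, mul_one]
      rfl
  have hφs : Function.Surjective φ := by
    rw [← LinearMap.range_eq_top]
    refine FlatA.NilpotentFree.eq_top_of_isNilpotent I hI _ ?_
    rw [eq_top_iff]
    rintro m -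
    obtain ⟨c, hc⟩ : ∃ c : ι →₀ R, c.mapRange (Ideal.Quotient.mk I) (map_zero _) = b.repr ((1 : R ⧸ I) ⊗ₜ[R] m) := by
      obtain ⟨c, hc⟩ := Finsupp.mapRange_surjective (Ideal.Quotient.mk I) (map_zero _) Ideal.Quotient.mk_surjective
        (b.repr ((1 : R ⧸ I) ⊗ₜ[R] m))
      exact ⟨c, hc⟩
    have h1 : (1 : R ⧸ I) ⊗ₜ[R] (m - φ c) = 0 := by
      rw [TensorProduct.tmul_sub, hφ1, hc, LinearEquiv.symm_apply_apply, sub_self]
    have h2 := mem_smul_top_of_tmul_eq_zero I h1
    rw [← add_sub_cancel (φ c) m]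
    exact Submodule.add_mem_sup ⟨c, rfl⟩ h2
  have hcoord : ∀ x ∈ LinearMap.ker φ, ∀ i, x i ∈ I := by
    intro x hx i
    have h1 := hφ1 x
    rw [LinearMap.mem_ker.mp hx, TensorProduct.tmul_zero] at h1
    have h2 := (LinearEquiv.map_eq_zero_iff _).mp h1.symm
    have h3 := DFunLike.congr_fun h2 i
    rw [Finsupp.mapRange_apply] at h3
    exact Ideal.Quotient.eq_zero_iff_mem.mp h3
  let J : Ideal R := Ideal.span {r | ∃ x ∈ LinearMap.ker φ, ∃ i, x i = r}
  have hJI : J ≤ I := by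
    rw [Ideal.span_le]
    rintro _ ⟨x, hx, i, rfl⟩
    exact hcoord x hx i
  refine ⟨J, hJI, ?_⟩
  intro A' _ _
  let φ' : A' ⊗[R] (ι →₀ R) →ₗ[A'] A' ⊗[R] M := φ.baseChange A'
  have hφ's : Function.Surjective φ' := LinearMap.lTensor_surjective A' hφs
  -- the kernel of `φ'`
  have hker : ∀ z, φ' z = 0 → z ∈ Submodule.span A' {w : A' ⊗[R] (ι →₀ R) | ∃ x ∈ LinearMap.ker φ, w = 1 ⊗ₜ x} :=
    fun z hz => mem_span_of_baseChange_eq_zero φ hφs A' z hz
  -- expansion of `1 ⊗ x`
  have hexp : ∀ x : ι →₀ R, (1 : A') ⊗ₜ[R] x = x.sum fun i r => algebraMap R A' r • ((1 : A') ⊗ₜ[R] Finsupp.single i (1 : R)) := by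
    intro x
    conv_lhs => rw [← Finsupp.sum_single x]
    rw [Finsupp.sum, TensorProduct.tmul_sum]
    refine Finset.sum_congr rfl fun i _ => ?_
    change _ = algebraMap R A' (x i) • ((1 : A') ⊗ₜ[R] Finsupp.single i (1 : R))
    rw [algebraMap_smul, ← TensorProduct.tmul_smul]
    simp
  constructor
  · intro hflat
    have hI' : IsNilpotent (I.map (algebraMap R A')) := by
      obtain ⟨n, hn⟩ := hI
      exact ⟨n, by rw [← Ideal.map_pow, hn]; exact Ideal.map_bot⟩
    have h1 : LinearMap.ker φ' ≤ I.map (algebraMap R A') • LinearMap.ker φ' := by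
      intro z hz
      refine mem_smul_of_flat φ' hφ's _ hz ?_
      have h2 := hker z hz
      refine Submodule.span_le.mpr ?_ h2
      rintro _ ⟨x, hx, rfl⟩
      rw [SetLike.mem_coe, hexp x]
      refine Submodule.sum_mem _ fun i _ => Submodule.smul_mem_smul ?_ trivial
      exact Ideal.mem_map_of_mem _ (hcoord x hx i)
    have h2 := FlatA.NilpotentFree.eq_bot_of_isNilpotent _ hI' _ h1
    rw [eq_bot_iff, Ideal.map_le_iff_le_comap, Ideal.span_le]
    rintro _ ⟨x, hx, i, rfl⟩
    have h3 : (1 : A') ⊗ₜ[R] x ∈ LinearMap.ker φ' := by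
      rw [LinearMap.mem_ker]
      change LinearMap.baseChange A' φ _ = 0
      rw [LinearMap.baseChange_tmul, LinearMap.mem_ker.mp hx, TensorProduct.tmul_zero]
    rw [h2, Submodule.mem_bot] at h3
    have h4 := congrArg (TensorProduct.rid R A' ∘ LinearMap.lTensor A' (Finsupp.lapply i : (ι →₀ R) →ₗ[R] R)) h3
    simp only [Function.comp_apply, LinearMap.lTensor_tmul, map_zero, TensorProduct.rid_tmul, Finsupp.lapply_apply] at h4
    rw [Algebra.smul_def, mul_one] at h4
    exact h4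
  · intro hJ
    have h1 : Function.Injective φ' := by
      rw [injective_iff_map_eq_zero]
      intro z hz
      have h2 := hker z hz
      have h3 : Submodule.span A' {w : A' ⊗[R] (ι →₀ R) | ∃ x ∈ LinearMap.ker φ, w = 1 ⊗ₜ x} ≤ ⊥ := by
        rw [Submodule.span_le]
        rintro _ ⟨x, hx, rfl⟩
        rw [hexp x]
        refine Submodule.sum_mem _ fun i _ => ?_
        have h4 : algebraMap R A' (x i) = 0 := by
          have : algebraMap R A' (x i) ∈ J.map (algebraMap R A') :=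
            Ideal.mem_map_of_mem _ (Ideal.subset_span ⟨x, hx, i, rfl⟩)
          rwa [hJ, Ideal.mem_bot] at this
        simp only [h4, zero_smul, Submodule.mem_bot]
      exact (Submodule.mem_bot _).mp (h3 h2)
    exact Module.Flat.of_linearEquiv (LinearEquiv.ofBijective φ' ⟨h1, hφ's⟩).symm

theorem free_quotient {A₀ : Type u} [CommRing A₀] (p : Ideal A₀) (f₀ : A₀) (M₀ : Type u) [AddCommGroup M₀] [Module A₀ M₀]
    (hfree : Module.Free (Localization.Away (Ideal.Quotient.mk p f₀))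
      (Localization.Away (Ideal.Quotient.mk p f₀) ⊗[A₀ ⧸ p] ((A₀ ⧸ p) ⊗[A₀] M₀)))
    (D : Type u) [CommRing D] [Algebra A₀ D] (hD : IsUnit (algebraMap A₀ D f₀)) :
    Module.Free (D ⧸ p.map (algebraMap A₀ D)) ((D ⧸ p.map (algebraMap A₀ D)) ⊗[D] (D ⊗[A₀] M₀)) := by
  let I : Ideal D := p.map (algebraMap A₀ D)
  let ρ : A₀ ⧸ p →+* D ⧸ I := Ideal.quotientMap I (algebraMap A₀ D) Ideal.le_comap_map
  have hunit : IsUnit (ρ (Ideal.Quotient.mk p f₀)) := by
    have h1 : ρ (Ideal.Quotient.mk p f₀) = Ideal.Quotient.mk I (algebraMap A₀ D f₀) :=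
      Ideal.quotientMap_mk
    rw [h1]
    exact hD.map _
  let ρf : Localization.Away (Ideal.Quotient.mk p f₀) →+* D ⧸ I := IsLocalization.Away.lift _ hunit
  let a1 : Algebra (A₀ ⧸ p) (D ⧸ I) := ρ.toAlgebra
  let a2 : Algebra (Localization.Away (Ideal.Quotient.mk p f₀)) (D ⧸ I) := ρf.toAlgebra
  have s1 : IsScalarTower A₀ (A₀ ⧸ p) (D ⧸ I) := IsScalarTower.of_algebraMap_eq fun a => rfl
  have s2 : IsScalarTower (A₀ ⧸ p) (Localization.Away (Ideal.Quotient.mk p f₀)) (D ⧸ I) :=
    IsScalarTower.of_algebraMap_eq fun a => (IsLocalization.Away.lift_eq _ hunit a).symm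
  exact Flat2C.FreeQuot.free_baseChange hfree (LinearEquiv.refl _ _) (TensorProduct.mk A₀ D M₀ 1)
    (TensorProduct.isBaseChange A₀ M₀ D)

theorem exists_flattening_noeth {A₀ : Type u} [CommRing A₀] [IsNoetherianRing A₀] [hp0 : (nilradical A₀).IsPrime]
    (f₀ : A₀) (hf' : f₀ ∉ nilradical A₀) (M₀ : Type u) [AddCommGroup M₀] [Module A₀ M₀]
    (hfree : Module.Free (Localization.Away (Ideal.Quotient.mk (nilradical A₀) f₀))
      (Localization.Away (Ideal.Quotient.mk (nilradical A₀) f₀) ⊗[A₀ ⧸ nilradical A₀] ((A₀ ⧸ nilradical A₀) ⊗[A₀] M₀))) :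
    ∃ J : Ideal A₀, J ≤ nilradical A₀ ∧
      ∀ (A' : Type u) [CommRing A'] [Algebra A₀ A'], IsUnit (algebraMap A₀ A' f₀) →
        (Module.Flat A' (A' ⊗[A₀] M₀) ↔ J.map (algebraMap A₀ A') = ⊥) := by
  let D := Localization.Away f₀
  let I : Ideal D := (nilradical A₀).map (algebraMap A₀ D)
  have hI : IsNilpotent I := by
    obtain ⟨n, hn⟩ := IsNoetherianRing.isNilpotent_nilradical A₀
    exact ⟨n, by rw [← Ideal.map_pow, hn]; exact Ideal.map_bot⟩
  -- the module is free over `D / I`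
  have hfreeD : Module.Free (D ⧸ I) ((D ⧸ I) ⊗[D] (D ⊗[A₀] M₀)) :=
    free_quotient (nilradical A₀) f₀ M₀ hfree D (IsLocalization.Away.algebraMap_isUnit f₀)
  obtain ⟨J, hJI, hJ⟩ := exists_flattening_nilpotent I hI (D ⊗[A₀] M₀) hfreeD
  let J₀ : Ideal A₀ := J.comap (algebraMap A₀ D)
  have hJ₀ : J₀.map (algebraMap A₀ D) = J := IsLocalization.map_under (Submonoid.powers f₀) D J
  refine ⟨J₀, ?_, ?_⟩
  · intro x hx
    have h1 : algebraMap A₀ D x ∈ I := hJI hx
    have h2 : IsNilpotent (algebraMap A₀ D x) := by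
      obtain ⟨n, hn⟩ := hI
      refine ⟨n, ?_⟩
      have := Ideal.pow_mem_pow h1 n
      rw [hn] at this
      exact this
    obtain ⟨n, hn⟩ := h2
    rw [← map_pow, IsLocalization.map_eq_zero_iff (Submonoid.powers f₀)] at hn
    obtain ⟨⟨_, k, rfl⟩, hk⟩ := hn
    have h3 : f₀ ^ k * x ^ n ∈ nilradical A₀ := by
      rw [hk]
      exact zero_mem _
    rcases hp0.mem_or_mem h3 with h | h
    · exact absurd (hp0.mem_of_pow_mem _ h) hf'
    · exact hp0.mem_of_pow_mem _ h
  · intro A' _ _ hu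
    let δ : D →+* A' := IsLocalization.Away.lift f₀ (g := algebraMap A₀ A') hu
    let a1 : Algebra D A' := δ.toAlgebra
    have t1 : IsScalarTower A₀ D A' := IsScalarTower.of_algebraMap_eq fun a => (IsLocalization.Away.lift_eq _ hu a).symm
    have e1 : A' ⊗[D] (D ⊗[A₀] M₀) ≃ₗ[A'] A' ⊗[A₀] M₀ := AlgebraTensorModule.cancelBaseChange A₀ D A' A' M₀
    have h1 : Module.Flat A' (A' ⊗[A₀] M₀) ↔ Module.Flat A' (A' ⊗[D] (D ⊗[A₀] M₀)) :=
      ⟨fun _ => Module.Flat.of_linearEquiv e1, fun _ => Module.Flat.of_linearEquiv e1.symm⟩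
    rw [h1, hJ A', ← hJ₀, Ideal.map_map, ← IsScalarTower.algebraMap_eq]

attribute [local instance] Algebra.TensorProduct.rightAlgebra in
theorem generic_free {A₀ S₀ : Type u} [CommRing A₀] [hp0 : (nilradical A₀).IsPrime]
    [CommRing S₀] [Algebra A₀ S₀] [Algebra.FiniteType A₀ S₀] (M₀ : Type u) [AddCommGroup M₀] [Module S₀ M₀] [Module A₀ M₀]
    [IsScalarTower A₀ S₀ M₀] [Module.Finite S₀ M₀] :
    ∃ f : A₀ ⧸ nilradical A₀, f ≠ 0 ∧ Module.Free (Localization.Away f)
      (Localization.Away f ⊗[A₀ ⧸ nilradical A₀] ((A₀ ⧸ nilradical A₀) ⊗[A₀] M₀)) :=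
  Flat2C.FreeQuot.generic_free_baseChange (A' := A₀) (R := A₀ ⧸ nilradical A₀) (S' := S₀)
    (S₁ := (A₀ ⧸ nilradical A₀) ⊗[A₀] S₀) M₀

theorem exists_flattening {A B : Type u} [CommRing A] [hprime : (nilradical A).IsPrime] [CommRing B] [Algebra A B]
    [Algebra.FinitePresentation A B] (N : Type u) [AddCommGroup N] [Module B N] [Module A N] [IsScalarTower A B N]
    [Module.FinitePresentation B N] :
    ∃ (h : A) (J : Ideal A), ¬ IsNilpotent h ∧ J.FG ∧ J ≤ nilradical A ∧
      ∀ (A' : Type u) [CommRing A'] [Algebra A A'], IsUnit (algebraMap A A' h) →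
        (Module.Flat A' (A' ⊗[A] N) ↔ J.map (algebraMap A A') = ⊥) := by
  obtain ⟨A₀, S₀, M₀, _, _, _, _, _, _, _, _, _, _, g, hA₀, -, hpush, hfp, -, hM₀, hg⟩ :=
    FlatA.Model.exists_model (R := A) (S := B) (M := N) ∅ ∅
  have hft : Algebra.FiniteType ℤ A₀ := (Subalgebra.fg_iff_finiteType A₀).mp hA₀
  have noeth : IsNoetherianRing A₀ := Algebra.FiniteType.isNoetherianRing ℤ A₀
  have hinj : Function.Injective (algebraMap A₀ A) := Subtype.val_injective
  have hnil : nilradical A₀ = (nilradical A).comap (algebraMap A₀ A) := by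
    ext x
    rw [mem_nilradical, Ideal.mem_comap, mem_nilradical, IsNilpotent.map_iff hinj]
  have hp0 : (nilradical A₀).IsPrime := by
    rw [hnil]
    exact Ideal.comap_isPrime _ _
  have s0 : IsScalarTower A₀ A N := inferInstance
  have s1 : IsScalarTower A₀ S₀ N := IsScalarTower.of_algebraMap_smul fun a x => by
    rw [← algebraMap_smul B (algebraMap A₀ S₀ a) x, ← IsScalarTower.algebraMap_apply,
      IsScalarTower.algebraMap_apply A₀ A B, algebraMap_smul]
    rfl
  have hgA : IsBaseChange A (g.restrictScalars A₀) :=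
    (Flat2C.PushoutBC.isBaseChange_iff (R := A₀) (S := A) (A := S₀) (B := B) g).mp hg
  obtain ⟨f, hf0, hfree⟩ := generic_free (A₀ := A₀) (S₀ := S₀) M₀
  obtain ⟨f₀, rfl⟩ := Ideal.Quotient.mk_surjective f
  have hf' : f₀ ∉ nilradical A₀ := fun h => hf0 (Ideal.Quotient.eq_zero_iff_mem.mpr h)
  obtain ⟨J, hJ, h⟩ := exists_flattening_noeth f₀ hf' M₀ hfree
  refine ⟨algebraMap A₀ A f₀, J.map (algebraMap A₀ A), ?_, ?_, ?_, ?_⟩
  · rw [IsNilpotent.map_iff hinj]
    exact fun h => hf' h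
  · exact ((isNoetherianRing_iff_ideal_fg A₀).mp noeth J).map _
  · rw [Ideal.map_le_iff_le_comap, ← hnil]
    exact hJ
  · intro A' _ _ hu
    have t0 : IsScalarTower A₀ A A' := inferInstance
    have e2 : A' ⊗[A] (A ⊗[A₀] M₀) ≃ₗ[A'] A' ⊗[A₀] M₀ := AlgebraTensorModule.cancelBaseChange A₀ A A' A' M₀
    have e3 : A' ⊗[A] (A ⊗[A₀] M₀) ≃ₗ[A'] A' ⊗[A] N := AlgebraTensorModule.congr (LinearEquiv.refl A' A') hgA.equiv
    have h1 : Module.Flat A' (A' ⊗[A] N) ↔ Module.Flat A' (A' ⊗[A₀] M₀) :=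
      ⟨fun _ => Module.Flat.of_linearEquiv (e2.symm ≪≫ₗ e3), fun _ => Module.Flat.of_linearEquiv (e3.symm ≪≫ₗ e2)⟩
    rw [h1, h A' hu, Ideal.map_map, ← IsScalarTower.algebraMap_eq]

end K124.FlatNil
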