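import Groth.Agent.EGA43.K124.FlatNil
import Groth.Agent.EGA43.K120.FlatPt
import Groth.Agent.Desc.FPSections

/-!
# Generic flattening over an affine base with irreducible spectrum
-/

set_option autoImplicit false
universe u
open CategoryTheory AlgebraicGeometry Limits TensorProduct

namespace K124.FlatNil

open Groth.Agent K120.FlatPt

variable {X Y : Scheme.{u}}

/-- one affine open -/
theorem exists_flatPt_affine [IsAffine Y] (hnil : (nilradical Γ(Y, ⊤)).IsPrime) (f : X ⟶ Y)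
    [LocallyOfFinitePresentation f] (F : X.Modules) (hq : Coh.IsQCoh F) (hF : CohB1.IsFP F) {U : X.Opens}
    (hU : IsAffineOpen U) :
    ∃ (h : Γ(Y, ⊤)) (J : Ideal Γ(Y, ⊤)), ¬ IsNilpotent h ∧ J.FG ∧ J ≤ nilradical _ ∧
      ∀ (T : Scheme.{u}) [IsAffine T] (t : T ⟶ Y), IsUnit (t.appTop.hom h) →
        ((∀ x ∈ U, ∀ s, FlatPt f F t x s) ↔ J.map t.appTop.hom = ⊥) := by
  have e : U ≤ f ⁻¹ᵁ ⊤ := le_top
  let a1 : Algebra Γ(Y, ⊤) Γ(X, U) := (f.appLE ⊤ U e).hom.toAlgebra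
  let i2 := VarietyB.FlatH0.modOver f F e
  have hfp : Algebra.FinitePresentation Γ(Y, ⊤) Γ(X, U) :=
    f.finitePresentation_appLE (isAffineOpen_top Y) hU e
  have : IsScalarTower Γ(Y, ⊤) Γ(X, U) Γ(F, U) := .of_algebraMap_smul fun _ _ => rfl
  have hM : Module.FinitePresentation Γ(X, U) Γ(F, U) := Desc.FPSections.finitePresentation_sections hU hq hF
  obtain ⟨h, J, h1, h2, h3, h4⟩ := exists_flattening (A := Γ(Y, ⊤)) (B := Γ(X, U)) Γ(F, U)
  refine ⟨h, J, h1, h2, h3, fun T _ t ht => ?_⟩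
  have e' : (⊤ : T.Opens) ≤ t ⁻¹ᵁ ⊤ := le_top
  have h5 := flatPt_iff_flat (t := t) hq hU (isAffineOpen_top Y) (isAffineOpen_top T) e e'
  let i3 := VarietyB.FlatH0.algOver t e'
  have h6 : (algebraMap Γ(Y, ⊤) Γ(T, ⊤)) = t.appTop.hom := by
    change (t.appLE ⊤ (t ⁻¹ᵁ ⊤) le_rfl).hom = (t.app ⊤).hom
    rw [Scheme.Hom.appLE_eq_app]
  have h7 := h4 Γ(T, ⊤) (by rw [h6]; exact ht)
  rw [h6] at h7
  rw [← h7, ← h5]
  exact ⟨fun h x hx s _ => h x hx s, fun h x hx s => h x hx s trivial⟩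

theorem exists_flatPt [IsAffine Y] (hnil : (nilradical Γ(Y, ⊤)).IsPrime) (f : X ⟶ Y)
    [LocallyOfFinitePresentation f] [QuasiCompact f] (F : X.Modules) (hq : Coh.IsQCoh F) (hF : CohB1.IsFP F) :
    ∃ (h : Γ(Y, ⊤)) (J : Ideal Γ(Y, ⊤)), ¬ IsNilpotent h ∧ J.FG ∧ J ≤ nilradical _ ∧
      ∀ (T : Scheme.{u}) [IsAffine T] (t : T ⟶ Y), IsUnit (t.appTop.hom h) →
        ((∀ x s, FlatPt f F t x s) ↔ J.map t.appTop.hom = ⊥) := by
  classical
  have hc : CompactSpace X := QuasiCompact.compactSpace_of_compactSpace f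
  obtain ⟨s, hs, hsU⟩ := (isCompact_iff_finite_and_eq_biUnion_affineOpens (U := (⊤ : X.Opens))).mp isCompact_univ
  have := hs.to_subtype
  have hfin : Fintype s := Fintype.ofFinite s
  choose h J h1 h2 h3 h4 using fun U : s => exists_flatPt_affine hnil f F hq hF U.1.2
  have hJ : ∀ (T : Scheme.{u}) (t : T ⟶ Y), (⨆ i, J i).map t.appTop.hom = ⨆ i, (J i).map t.appTop.hom :=
    fun T t => Ideal.map_iSup _ _
  refine ⟨∏ i, h i, ⨆ i, J i, ?_, ?_, ?_, ?_⟩
  · intro hn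
    obtain ⟨i, -, hi⟩ := (hnil.prod_mem_iff (s := Finset.univ)).mp (mem_nilradical.mpr hn)
    exact h1 i (mem_nilradical.mp hi)
  · exact Submodule.fg_iSup _ h2
  · exact iSup_le h3
  · intro T _ t ht
    rw [hJ, iSup_eq_bot]
    rw [map_prod] at ht
    have hu : ∀ i, IsUnit (t.appTop.hom (h i)) := fun i => 
      isUnit_of_dvd_unit (Finset.dvd_prod_of_mem (fun i => t.appTop.hom (h i)) (Finset.mem_univ i)) ht
    constructor
    · intro H i
      exact (h4 i T t (hu i)).mp fun x _ s => H x s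
    · intro H x y
      have hx : x ∈ (⊤ : X.Opens) := trivial
      rw [hsU] at hx
      simp only [TopologicalSpace.Opens.mem_iSup] at hx
      obtain ⟨U, hU, hx⟩ := hx
      exact (h4 ⟨U, hU⟩ T t (hu _)).mpr (H ⟨U, hU⟩) x hx y

end K124.FlatNil
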