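import Groth.Agent.Ega4fib.H111.FibFormula
import Groth.Agent.Ega4fib.H113.DimFibre
import Groth.Agent.Ega4fib.H174.EquidimCrit
import Mathlib.RingTheory.Ideal.KrullsHeightTheorem

/-!
# Zero loci of one function and fibres of an equidimensional morphism

`coheight z` (for the specialization order of a scheme) is `dim O_{X,z}`.

* `coheight_le_one`: Krull's principal ideal theorem for the points of `V(g)` maximal in `V(g)`.
* `coheight_asFiber_le_one`: the same in a fibre.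
* `coheight_add_rtd_eq`: near a point of equidimensionality `dim O_{X_{f z},z} + rtd f z = e`.
* `Setup`: consequences for the maximal points of `V(g)`.
-/

set_option autoImplicit false
universe u
open CategoryTheory AlgebraicGeometry TopologicalSpace Limits
open Groth.Agent.CycB.RelDim Groth.Agent.CycB.LocQuot
open Groth.Agent.Ega4fib.H174.Equidim Groth.Agent.Ega4fib.H174.EquidimCrit Groth.Agent

namespace K124.Hypersurf

variable {X Y : Scheme.{u}}

theorem not_isUnit_of_mem (g : Γ(X, ⊤)) {z : X} (hz : z ∈ X.zeroLocus ({g} : Set Γ(X, ⊤))) :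
    ¬ IsUnit (X.presheaf.germ ⊤ z trivial g) := by
  rw [← Scheme.mem_basicOpen_top]
  exact (X.mem_zeroLocus_iff _ _).1 hz g rfl

theorem mem_of_not_isUnit (g : Γ(X, ⊤)) {z : X} (hz : ¬ IsUnit (X.presheaf.germ ⊤ z trivial g)) :
    z ∈ X.zeroLocus ({g} : Set Γ(X, ⊤)) := by
  rw [← Scheme.mem_basicOpen_top] at hz
  rw [Scheme.mem_zeroLocus_iff]
  rintro _ rfl
  exact hz

/-- Krull's principal ideal theorem: a maximal point of `V(g)` has coheight at most one. -/
theorem coheight_le_one [IsLocallyNoetherian X] (g : Γ(X, ⊤)) (ξ : X)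
    (hξ : ξ ∈ X.zeroLocus ({g} : Set Γ(X, ⊤)))
    (hmin : ∀ z ∈ X.zeroLocus ({g} : Set Γ(X, ⊤)), z ⤳ ξ → z = ξ) : Order.coheight ξ ≤ 1 := by
  have hp : IsLocalRing.maximalIdeal (X.presheaf.stalk ξ) ∈
      (Ideal.span {X.presheaf.germ ⊤ ξ trivial g}).minimalPrimes := by
    refine ⟨⟨inferInstance, ?_⟩, ?_⟩
    · rw [Ideal.span_singleton_le_iff_mem, IsLocalRing.mem_maximalIdeal, mem_nonunits_iff]
      exact not_isUnit_of_mem g hξ
    · rintro q ⟨hq, hle⟩ -
      obtain ⟨z, hz, rfl⟩ := exists_eq_ker q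
      rw [Ideal.span_singleton_le_iff_mem, mem_ker_specMap_iff] at hle
      have h1 : z ∈ X.zeroLocus ({g} : Set Γ(X, ⊤)) := by
        refine mem_of_not_isUnit g ?_
        have h2 := TopCat.Presheaf.germ_stalkSpecializes_apply X.presheaf (U := ⊤) (x := z) (y := ξ)
          trivial hz g
        rw [← h2]
        exact hle
      obtain rfl := hmin z h1 hz
      rw [← primeOf_asIdeal, primeOf_refl]
      rfl
  have h1 := Ideal.height_le_one_of_isPrincipal_of_mem_minimalPrimes_of_isLocalRing _ hp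
  have h2 := IsLocalRing.maximalIdeal_height_eq_ringKrullDim (R := X.presheaf.stalk ξ)
  rw [ringKrullDim_stalk_eq_coheight] at h2
  have h3 : (IsLocalRing.maximalIdeal (X.presheaf.stalk ξ)).height = Order.coheight ξ := by
    exact_mod_cast h2
  rw [← h3]
  exact h1

theorem coheight_eq_zero_iff (z : X) : Order.coheight z = 0 ↔ ∀ w : X, w ⤳ z → w = z := by
  rw [Order.coheight_eq_zero]
  constructor
  · intro h w hw
    have h1 : z ≤ w := hw
    have h2 : z ⤳ w := h h1
    exact (hw.antisymm h2).eq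
  · intro h w hw
    have h1 : w ⤳ z := hw
    rw [h w h1]

theorem coheight_asFiber_eq_zero_iff (f : X ⟶ Y) (z : X) :
    Order.coheight (f.asFiber z) = 0 ↔ ∀ w : X, w ⤳ z → f w = f z → w = z := by
  rw [coheight_eq_zero_iff]
  have := maximal_fiber_iff f (f z) (f.asFiber z)
  rw [Scheme.Hom.fiberι_asFiber] at this
  exact this

/-- The same in a fibre. -/
theorem coheight_asFiber_le_one (f : X ⟶ Y) [LocallyOfFiniteType f] (g : Γ(X, ⊤)) (w : X)
    (hw : w ∈ X.zeroLocus ({g} : Set Γ(X, ⊤)))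
    (hmin : ∀ z ∈ X.zeroLocus ({g} : Set Γ(X, ⊤)), z ⤳ w → f z = f w → z = w) :
    Order.coheight (f.asFiber w) ≤ 1 := by
  have hg : LocallyOfFiniteType (f.fiberToSpecResidueField (f w)) :=
    inferInstanceAs (LocallyOfFiniteType (pullback.snd f (Y.fromSpecResidueField (f w))))
  have hN : IsLocallyNoetherian (f.fiber (f w)) :=
    LocallyOfFiniteType.isLocallyNoetherian (f.fiberToSpecResidueField (f w))
  have hpre : ∀ z : f.fiber (f w), z ∈ (f.fiber (f w)).zeroLocus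
      ({(f.fiberι (f w)).appTop g} : Set Γ(f.fiber (f w), ⊤)) ↔
        f.fiberι (f w) z ∈ X.zeroLocus ({g} : Set Γ(X, ⊤)) := by
    intro z
    have h := Scheme.preimage_zeroLocus (f.fiberι (f w)) (U := ⊤) ({g} : Set Γ(X, ⊤))
    rw [Set.image_singleton] at h
    change z ∈ (f.fiber (f w)).zeroLocus {((f.fiberι (f w)).app ⊤).hom g} ↔
      z ∈ (f.fiberι (f w)) ⁻¹' X.zeroLocus {g}
    rw [h]
  refine coheight_le_one ((f.fiberι (f w)).appTop g) (f.asFiber w) ?_ ?_
  · rw [hpre, Scheme.Hom.fiberι_asFiber]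
    exact hw
  · intro z hz hzw
    rw [hpre] at hz
    apply (f.fiberι (f w)).isEmbedding.injective
    rw [Scheme.Hom.fiberι_asFiber]
    refine hmin _ hz ?_ (fiberι_mem_preimage f (f w) z)
    have h1 := (fiberι_specializes_iff f _ _ _).mpr hzw
    rwa [Scheme.Hom.fiberι_asFiber] at h1

/-- Local form of equidimensionality. -/
theorem exists_equidim (f : X ⟶ Y) [LocallyOfFiniteType f] {x : X} (hf : EGA43.IsEquidimAt f x) :
    ∃ e : ℕ, (∀ z : X, z ⤳ x → (∀ z' : X, z' ⤳ z → z' = z) → ∀ y : Y, y ⤳ f z → y = f z) ∧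
      (∀ z : X, z ⤳ x → (∀ z' : X, z' ⤳ z → f z' = f z → z' = z) → rtd f z = e) ∧
      (∀ z : X, z ⤳ x → FlatMor.fibreDimAt f z = e) ∧
      (∀ z : X, z ⤳ x → ∃ c n : ℕ, Order.coheight (f.asFiber z) = c ∧ rtd f z = n ∧ c + n = e) := by
  obtain ⟨e, U, hxU, h1, h2⟩ := (isEquidimAt_iff_points f x).1 hf
  have h3 : ∀ z : X, z ⤳ x → FlatMor.fibreDimAt f z = e := by
    intro z hz
    obtain ⟨c, hc, hfc, hmax⟩ := exists_maximal_fiber f z
    have hcU : c ∈ U := (hc.trans hz).mem_open U.2 hxU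
    apply le_antisymm
    · refine VarietyA.LocDim.fibreDimAt_le f z e fun w hw hfw => ?_
      obtain ⟨c', h4, h5, h6⟩ := exists_maximal_fiber f w
      rw [← h2 c' ((h4.trans (hw.trans hz)).mem_open U.2 hxU) h6]
      exact VarietyA.LocDim.rtd_le_of_specializes f h4 h5
    · obtain ⟨n, hn, hn'⟩ := VarietyA.LocDim.le_fibreDimAt f z c hc hfc
      rw [h2 c hcU hmax] at hn
      have : e = n := by exact_mod_cast hn
      rw [this]
      exact hn'
  refine ⟨e, fun z hz hmax => (h1 z (hz.mem_open U.2 hxU) hmax).1,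
    fun z hz hmax => h2 z (hz.mem_open U.2 hxU) hmax, h3, fun z hz => ?_⟩
  have hg : LocallyOfFiniteType (f.fiberToSpecResidueField (f z)) :=
    inferInstanceAs (LocallyOfFiniteType (pullback.snd f (Y.fromSpecResidueField (f z))))
  have hN : IsLocallyNoetherian (f.fiber (f z)) :=
    LocallyOfFiniteType.isLocallyNoetherian (f.fiberToSpecResidueField (f z))
  obtain ⟨c, hc⟩ := ENat.ne_top_iff_exists.1
    (Groth.Agent.Ega4fib.H113.DimFibre.coheight_ne_top (f.asFiber z))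
  obtain ⟨n, hn, hn'⟩ := Groth.Agent.Ega4fib.H111.FibFormula.fibreDimAt_eq f z
  refine ⟨c, n, hc.symm, hn, ?_⟩
  rw [h3 z hz, ringKrullDim_stalk_eq_coheight, ← hc] at hn'
  exact_mod_cast hn'.symm

/-- If `w ∈ V(g)` is a generization of `x` in the fibre of `x`, then `w` is not maximal in its fibre. -/
theorem coheight_asFiber_ne_zero (f : X ⟶ Y) (g : Γ(X, ⊤)) {x : X}
    (hmax : ∀ z : X, f z = f x → (∀ z' : X, f z' = f x → z' ⤳ z → z' = z) →
      z ∉ X.zeroLocus ({g} : Set Γ(X, ⊤)))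
    {w : X} (hfw : f w = f x) (hwV : w ∈ X.zeroLocus ({g} : Set Γ(X, ⊤))) :
    Order.coheight (f.asFiber w) ≠ 0 := by
  intro h0
  rw [coheight_asFiber_eq_zero_iff] at h0
  exact hmax w hfw (fun z' h1 h2 => h0 z' h2 (h1.trans hfw.symm)) hwV

/-- Maximal points of `V(g)` near a point `x` of equidimensionality. -/
theorem maximal_zeroLocus [IsLocallyNoetherian X] (f : X ⟶ Y) [LocallyOfFiniteType f] (g : Γ(X, ⊤)) {x : X}
    (e : ℕ) (h1 : ∀ z : X, z ⤳ x → (∀ z' : X, z' ⤳ z → z' = z) → ∀ y : Y, y ⤳ f z → y = f z)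
    (h4 : ∀ z : X, z ⤳ x → ∃ c n : ℕ, Order.coheight (f.asFiber z) = c ∧ rtd f z = n ∧ c + n = e)
    (hmax : ∀ z : X, f z = f x → (∀ z' : X, f z' = f x → z' ⤳ z → z' = z) →
      z ∉ X.zeroLocus ({g} : Set Γ(X, ⊤)))
    {ζ : X} (hζx : ζ ⤳ x) (hζV : ζ ∈ X.zeroLocus ({g} : Set Γ(X, ⊤)))
    (hζmin : ∀ z ∈ X.zeroLocus ({g} : Set Γ(X, ⊤)), z ⤳ ζ → z = ζ) :
    Order.coheight ζ = 1 ∧ (∀ y : Y, y ⤳ f ζ → y = f ζ) ∧ ∃ n : ℕ, rtd f ζ = n ∧ n + 1 = e := by
  have hle := coheight_le_one g ζ hζV hζmin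
  -- a maximal point of the fibre of the closure of `ζ` through `x`
  obtain ⟨w, hw1, hw2, hw3, hw4⟩ := exists_maximal_fib f hζx
  have hwV : w ∈ X.zeroLocus ({g} : Set Γ(X, ⊤)) := hw1.mem_closed (X.zeroLocus_isClosed _) hζV
  have hwc := coheight_asFiber_ne_zero f g hmax hw3 hwV
  have hrtd := rtd_le_of_maximal_fib f hw1 hw4
  obtain ⟨c, n, hc, hn, hcn⟩ := h4 w hw2
  obtain ⟨c', n', hc', hn', hcn'⟩ := h4 ζ hζx
  rw [hn, hn'] at hrtd
  have hnn : n' ≤ n := by exact_mod_cast hrtd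
  have hc0 : c ≠ 0 := by
    rintro rfl
    exact hwc hc
  have hc'0 : c' ≠ 0 := by omega
  -- `ζ` is not maximal in its fibre
  have hnot : ¬ ∀ z : X, z ⤳ ζ → f z = f ζ → z = ζ := by
    rw [← coheight_asFiber_eq_zero_iff, hc']
    exact_mod_cast hc'0
  push Not at hnot
  obtain ⟨z, hz, hfz, hne⟩ := hnot
  have hlt : ζ < z := by
    refine lt_iff_le_not_ge.2 ⟨hz, fun h => hne ?_⟩
    have h5 : ζ ⤳ z := h
    exact (hz.antisymm h5).eq
  have h6 : Order.coheight z + 1 ≤ Order.coheight ζ := Order.coheight_add_one_le hlt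
  have h7 : Order.coheight ζ = 1 := le_antisymm hle (le_trans (by simp) h6)
  have h8 : Order.coheight z = 0 := by
    rw [h7] at h6
    have h9 : Order.coheight z + 1 ≤ 0 + 1 := by simpa using h6
    exact le_antisymm ((ENat.add_le_add_iff_right (by simp)).1 h9) bot_le
  have h9 : c' ≤ 1 := by
    have h10 : Order.coheight (f.asFiber ζ) ≤ Order.coheight ζ := by
      have h11 := Order.coheight_le_coheight_apply_of_strictMono (f.fiberι (f ζ))
        (fun _ _ h => Groth.Agent.Ega4fib.H113.DimFibre.fiberι_strictMono f (f ζ) h) (f.asFiber ζ)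
      rwa [Scheme.Hom.fiberι_asFiber] at h11
    rw [h7, hc'] at h10
    exact_mod_cast h10
  refine ⟨h7, ?_, n', hn', by omega⟩
  rw [← hfz]
  exact h1 z (hz.trans hζx) ((coheight_eq_zero_iff z).1 h8)

end K124.Hypersurf
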