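import Groth.Agent.Ega4fib.H114.GenComp
import Groth.Agent.Ega4fib.H159.OpenAtDim
import Mathlib.AlgebraicGeometry.PullbackCarrier

/-!
# Openness at a generic point of a fibre and dimension of the nearby fibres

`rtd f z` is the transcendence degree of `κ(z)` over `κ(f z)`. Let `f : X ⟶ Y` be locally of finite type, `Y`
locally Noetherian, `z` a maximal point of its fibre at which `f` is open.

* `rtd_le_of_isOpenAt`: if `ξ ⤳ z` is such that `dim O_{X,z}/𝔭_ξ = dim O_{X,z}` then `rtd f z ≤ rtd f ξ`.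
* `exists_component`: `Y` irreducible; some maximal point `ζ ⤳ z` of `X` lies over the generic point of `Y` and
  `rtd f ζ = rtd f z`.
* `exists_generization`: for each generization `η` of `f z` there is a generization `ζ` of `z`, maximal in the
  fibre over `η`, with `rtd f ζ = rtd f z`.
-/

set_option autoImplicit false
universe u
open CategoryTheory AlgebraicGeometry TopologicalSpace Limits
open Groth.Agent.CycB.RelDim Groth.Agent.CycB.LocQuot Groth.Agent.Ega4fib.H114.GenComp
open Groth.Agent.Ega4fib.H174.Equidim Groth.Agent.Ega4fib.H174.EquidimCrit Groth.Agent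

namespace K124.OpenDim

variable {X Y : Scheme.{u}}

theorem apply_fiberι (f : X ⟶ Y) (y : Y) (z : f.fiber y) : f (f.fiberι y z) = y :=
  fiberι_mem_preimage f y z

theorem specializes_fiberι (f : X ⟶ Y) (y : Y) (z w : f.fiber y) :
    f.fiberι y z ⤳ f.fiberι y w ↔ w ∈ closure {z} := by
  rw [← specializes_iff_mem_closure, (f.fiberι y).isEmbedding.isInducing.specializes_iff]

/-- Maximal points of the fibre through `x`, seen in the fibre or in `X`. -/
theorem forall_fiber_iff {f : X ⟶ Y} {x : X} {P : X → Prop} :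
    (∀ z : ↥(f.fiber (f x)), f.asFiber x ∈ closure {z} →
      (∀ z' : ↥(f.fiber (f x)), z ∈ closure {z'} → z' = z) → P (f.fiberι (f x) z)) ↔
    ∀ z : X, z ⤳ x → f z = f x → (∀ z' : X, z' ⤳ z → f z' = f z → z' = z) → P z := by
  constructor
  · intro H z hzx hfz hmax
    obtain ⟨z, rfl⟩ := exists_fiberι_eq f hfz
    refine H z ?_ fun z' hz' ↦ ?_
    · rw [← specializes_fiberι, Scheme.Hom.fiberι_asFiber]
      exact hzx
    · apply (f.fiberι (f x)).isEmbedding.injective
      refine hmax _ ((specializes_fiberι _ _ _ _).mpr hz') ?_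
      rw [apply_fiberι, apply_fiberι]
  · intro H z hzx hmax
    refine H _ ?_ (apply_fiberι _ _ _) fun z' hz' hfz' ↦ ?_
    · have := (specializes_fiberι f (f x) z (f.asFiber x)).mpr hzx
      rwa [Scheme.Hom.fiberι_asFiber] at this
    · rw [apply_fiberι] at hfz'
      obtain ⟨z', rfl⟩ := exists_fiberι_eq f hfz'
      rw [hmax z' ((specializes_fiberι _ _ _ _).mp hz')]

theorem exists_rtd_eq (f : X ⟶ Y) [LocallyOfFiniteType f] (x : X) : ∃ n : ℕ, rtd f x = n :=
  Cardinal.lt_aleph0.mp (rtd_lt_aleph0 f x)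

/-- If `f` is open at the maximal point `z` of its fibre and `ξ ⤳ z` has `dim O_{X,z}/𝔭_ξ = dim O_{X,z}` then
`rtd f z ≤ rtd f ξ`. -/
theorem rtd_le_of_isOpenAt [IsLocallyNoetherian Y] (f : X ⟶ Y) [LocallyOfFiniteType f] {z ξ : X}
    (hz : ∀ w : X, w ⤳ z → f w = f z → w = z) (hop : EGA43.IsOpenAt f z) (hξ : ξ ⤳ z)
    (hdim : ringKrullDim (X.presheaf.stalk z) ≤ ringKrullDim (Cyc.LocQuot z ξ hξ)) :
    rtd f z ≤ rtd f ξ := by
  have hXn : IsLocallyNoetherian X := LocallyOfFiniteType.isLocallyNoetherian f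
  obtain ⟨m, hm⟩ := exists_rtd_eq f ξ
  obtain ⟨n, hn⟩ := exists_rtd_eq f z
  obtain ⟨dX, dY, hX, hY, hineq⟩ := Groth.Agent.CycB.DimIneq.dim_ineq f hξ
  change (dX : Cardinal.{u}) + rtd f z ≤ (dY : Cardinal.{u}) + rtd f ξ at hineq
  rw [hm, hn] at hineq
  have hineq' : dX + n ≤ dY + m := by exact_mod_cast hineq
  have h1 := Groth.Agent.Ega4fib.H159.OpenAtDim.ringKrullDim_le_of_isOpenAt f z hop hz
  have h2 : ringKrullDim (Cyc.LocQuot (f z) (f ξ) (hξ.map f.continuous)) ≤
    ringKrullDim (Y.presheaf.stalk (f z)) := ringKrullDim_locQuot_le _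
  rw [hX] at hdim
  rw [hY] at h2
  have h3 : (dY : WithBot ℕ∞) ≤ dX := (h2.trans h1).trans hdim
  have h4 : dY ≤ dX := by exact_mod_cast h3
  rw [hm, hn]
  have h5 : n ≤ m := by omega
  exact_mod_cast h5

/-- Case of an irreducible base. -/
theorem exists_component [IrreducibleSpace Y] [IsLocallyNoetherian Y]
    (f : X ⟶ Y) [LocallyOfFiniteType f] (z : X) (hz : ∀ w : X, w ⤳ z → f w = f z → w = z)
    (hop : EGA43.IsOpenAt f z) :
    ∃ ζ : X, ζ ⤳ z ∧ (∀ w : X, w ⤳ ζ → w = ζ) ∧ f ζ = genericPoint Y ∧ rtd f ζ = rtd f z := by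
  have : IsLocallyNoetherian X := LocallyOfFiniteType.isLocallyNoetherian f
  obtain ⟨n, hn⟩ := exists_rtd_eq f z
  obtain ⟨ζ, hζ, hmax, hdim⟩ := exists_generic_dim z
  have hle : rtd f ζ ≤ rtd f z :=
    rtd_le_of_maximal_fib f hζ fun w' _ h2 h3 => hz w' h2 h3
  have hge := rtd_le_of_isOpenAt f hz hop hζ hdim
  refine ⟨ζ, hζ, hmax, ?_, le_antisymm hle hge⟩
  obtain ⟨dX, dY, hX, hY, hineq⟩ := Groth.Agent.CycB.DimIneq.dim_ineq f hζ
  change (dX : Cardinal.{u}) + rtd f z ≤ (dY : Cardinal.{u}) + rtd f ζ at hineq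
  rw [le_antisymm hle hge, hn] at hineq
  have hineq' : dX + n ≤ dY + n := by exact_mod_cast hineq
  have hη : genericPoint Y ⤳ f ζ := genericPoint_specializes _
  by_contra hne
  have h1 := ringKrullDim_locQuot_add_one_le (hζ.map f.continuous) hη (Ne.symm hne)
  rw [hY] at h1
  rw [hX] at hdim
  have h2 : ((dY : WithBot ℕ∞) + 1) ≤ dX :=
    (h1.trans (Groth.Agent.Ega4fib.H159.OpenAtDim.ringKrullDim_le_of_isOpenAt f z hop hz)).trans hdim
  have h3 : dY + 1 ≤ dX := by exact_mod_cast h2
  omega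

/-- Openness at a point passes to the base change along a closed immersion through the image point. -/
theorem isOpenAt_baseChange_of_isClosedImmersion {X' W : Scheme.{u}} {f : X ⟶ Y} {f' : X' ⟶ W}
    {p : X' ⟶ X} {j : W ⟶ Y} [IsPreimmersion j] (sq : IsPullback p f' f j) (z' : X')
    (hop : EGA43.IsOpenAt f (p z')) : EGA43.IsOpenAt f' z' := by
  have hp : IsPreimmersion p := MorphismProperty.of_isPullback sq.flip ‹IsPreimmersion j›
  intro U' hU'
  obtain ⟨U, hU, hUU'⟩ := (p.isEmbedding.isInducing.nhds_eq_comap z' ▸ hU' :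
    U' ∈ Filter.comap p (nhds (p z')))
  have h1 := hop U hU
  have h2 : f (p z') = j (f' z') := by
    rw [← Scheme.Hom.comp_apply, sq.w, Scheme.Hom.comp_apply]
  rw [h2] at h1
  have h3 := j.continuous.continuousAt h1
  refine Filter.mem_of_superset h3 ?_
  rintro w ⟨u, hu, huw⟩
  obtain ⟨x', hx'1, hx'2⟩ := Scheme.exists_preimage_of_isPullback sq u w huw
  exact ⟨x', hUU' (by rw [Set.mem_preimage, hx'1]; exact hu), hx'2⟩

/-- General case: generizations of the image point lift to points with the same `rtd`. -/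
theorem exists_generization [IsLocallyNoetherian Y]
    (f : X ⟶ Y) [LocallyOfFiniteType f] (z : X) (hz : ∀ w : X, w ⤳ z → f w = f z → w = z)
    (hop : EGA43.IsOpenAt f z) (η : Y) (hη : η ⤳ f z) :
    ∃ ζ : X, ζ ⤳ z ∧ f ζ = η ∧ (∀ w : X, w ⤳ ζ → f w = f ζ → w = ζ) ∧ rtd f ζ = rtd f z := by
  obtain ⟨W, j, hj, hr⟩ := exists_closure_subscheme η
  obtain ⟨w₀, hw₀⟩ : η ∈ Set.range j := by rw [hr]; exact subset_closure rfl
  have hgen : ∀ w : W, w₀ ⤳ w := by
    intro w
    rw [← j.isEmbedding.isInducing.specializes_iff, hw₀, specializes_iff_mem_closure, ← hr]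
    exact ⟨w, rfl⟩
  have hirr : IrreducibleSpace W := by
    have h1 : (Set.univ : Set W) = closure {w₀} := by
      symm
      rw [Set.eq_univ_iff_forall]
      exact fun w => specializes_iff_mem_closure.mp (hgen w)
    have h2 : IsIrreducible (Set.univ : Set W) := by
      rw [h1]; exact isIrreducible_singleton.closure
    exact (irreducibleSpace_def W).2 h2
  have hWn : IsLocallyNoetherian W := LocallyOfFiniteType.isLocallyNoetherian j
  have hgp : genericPoint W = w₀ := ((genericPoint_specializes w₀).antisymm (hgen _)).eq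
  have sq : IsPullback (pullback.fst f j) (pullback.snd f j) f j := IsPullback.of_hasPullback f j
  obtain ⟨w₁, hw₁⟩ : f z ∈ Set.range j := by
    rw [hr]; exact specializes_iff_mem_closure.mp hη
  obtain ⟨z', hz'1, hz'2⟩ := Scheme.exists_preimage_of_isPullback sq z w₁ hw₁.symm
  have hcomm : ∀ a : ↥(pullback f j), f (pullback.fst f j a) = j (pullback.snd f j a) := fun a => by
    rw [← Scheme.Hom.comp_apply, pullback.condition, Scheme.Hom.comp_apply]
  have hrtd : ∀ a : ↥(pullback f j), rtd (pullback.snd f j) a = rtd f (pullback.fst f j a) := by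
    intro a
    rw [← rtd_comp_closedImmersion (pullback.fst f j) f a, pullback.condition, rtd_comp,
      rtd_eq_zero_of_isPreimmersion j, zero_add]
  have hpemb := (pullback.fst f j).isEmbedding
  obtain ⟨ζ', h1, h2, h3, h4⟩ := exists_component (pullback.snd f j) z' (by
      intro w hw hfw
      apply hpemb.injective
      rw [hz'1]
      refine hz _ ?_ ?_
      · rw [← hz'1]
        exact hw.map (pullback.fst f j).continuous
      · rw [hcomm, hfw, ← hz'1, hcomm])
    (isOpenAt_baseChange_of_isClosedImmersion sq z' (by rw [hz'1]; exact hop))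
  have hfζ : f (pullback.fst f j ζ') = η := by rw [hcomm, h3, hgp, hw₀]
  refine ⟨pullback.fst f j ζ', ?_, hfζ, ?_, ?_⟩
  · rw [← hz'1]
    exact h1.map (pullback.fst f j).continuous
  · intro w hw hfw
    rw [hfζ] at hfw
    obtain ⟨w', hw'1, -⟩ := Scheme.exists_preimage_of_isPullback sq w w₀ (by rw [hfw, hw₀])
    rw [← hw'1] at hw
    rw [← hw'1, h2 w' (hpemb.isInducing.specializes_iff.mp hw)]
  · rw [← hrtd, h4, hrtd, hz'1]

end K124.OpenDim
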