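import Groth.Agent.EGA43.K130.SepBasic
import Groth.Agent.FlatA.NilpotentFree
import Groth.Agent.S5794
import Mathlib.LinearAlgebra.TensorProduct.Basis
import Mathlib.RingTheory.KrullDimension.Zero
import Mathlib.RingTheory.Nilpotent.Lemmas
import Mathlib.RingTheory.Noetherian.Nilpotent
import Mathlib.AlgebraicGeometry.Noetherian
import Mathlib.AlgebraicGeometry.Morphisms.Flat

/-!
# Joint injectivity and flat base change over an Artinian base

* `lTensor_joint_injective_of_free`: a jointly injective family (possibly infinite) of linear maps stays jointly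
  injective after tensoring with a free module.
* `lTensor_joint_injective_of_subsingleton`: the same for a flat module over a Noetherian ring whose spectrum has
  one point.
* `exists_affine_singleton`: points of a Noetherian scheme of dimension `≤ 0` are affine open subsets.
-/

set_option autoImplicit false
universe u
open CategoryTheory AlgebraicGeometry Opposite TopologicalSpace
open scoped TensorProduct

namespace K124.SepArtin

section Algebra

variable {A B M : Type u} [CommRing A] [AddCommGroup B] [Module A B] [AddCommGroup M] [Module A M]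
  {ι : Type u} {N : ι → Type u} [∀ i, AddCommGroup (N i)] [∀ i, Module A (N i)]

theorem lTensor_joint_injective_of_free [Module.Free A B] (u : ∀ i, M →ₗ[A] N i)
    (h : ∀ m, (∀ i, u i m = 0) → m = 0) (t : B ⊗[A] M) (ht : ∀ i, (u i).lTensor B t = 0) : t = 0 := by
  classical
  let b := Module.Free.chooseBasis A B
  apply (TensorProduct.equivFinsuppOfBasisLeft (N := M) b).injective
  rw [map_zero]
  ext k
  rw [TensorProduct.equivFinsuppOfBasisLeft_apply, Finsupp.zero_apply]
  refine h _ fun i => ?_
  have h1 : ∀ s : B ⊗[A] M, u i (TensorProduct.lid A M ((b.coord k).rTensor _ s)) =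
      TensorProduct.lid A (N i) ((b.coord k).rTensor _ ((u i).lTensor B s)) := by
    intro s
    induction s with
    | zero => simp
    | add x y hx hy => rw [map_add, map_add, map_add, hx, hy, map_add, map_add, map_add]
    | tmul b s => simp
  rw [h1, ht i, map_zero, map_zero]

theorem lTensor_joint_injective_of_subsingleton [IsNoetherianRing A]
    [Subsingleton (PrimeSpectrum A)] [Nontrivial A] [Module.Flat A B] (u : ∀ i, M →ₗ[A] N i)
    (h : ∀ m, (∀ i, u i m = 0) → m = 0) (t : B ⊗[A] M) (ht : ∀ i, (u i).lTensor B t = 0) : t = 0 := by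
  obtain ⟨m, hm⟩ := Ideal.exists_maximal A
  have hnil : nilradical A = m := by
    rw [nilradical_eq_sInf]
    apply le_antisymm
    · exact sInf_le hm.isPrime
    · refine le_sInf fun J hJ => ?_
      have h1 : (⟨J, hJ⟩ : PrimeSpectrum A) = ⟨m, hm.isPrime⟩ := Subsingleton.elim _ _
      have h2 : J = m := congrArg PrimeSpectrum.asIdeal h1
      exact h2.ge
  have hmax : (nilradical A).IsMaximal := hnil ▸ hm
  have hloc : IsLocalRing A := IsLocalRing.of_isMaximal_nilradical A
  have hm' : IsLocalRing.maximalIdeal A = nilradical A := (IsLocalRing.eq_maximalIdeal hmax).symm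
  have hN : IsNilpotent (IsLocalRing.maximalIdeal A) := by
    rw [hm']
    exact IsNoetherianRing.isNilpotent_nilradical A
  have : Module.Free A B := Groth.Agent.FlatA.NilpotentFree.free_of_flat_of_isNilpotent hN
  exact lTensor_joint_injective_of_free u h t ht

end Algebra

/-- On a Noetherian scheme of dimension `≤ 0`, each point is an affine open subset. -/
theorem exists_affine_singleton {X : Scheme.{u}} [IsNoetherian X] (hX : topologicalKrullDim X ≤ 0)
    (x : X) : ∃ U : X.Opens, IsAffineOpen U ∧ x ∈ U ∧ (U : Set X) = {x} := by
  have : Nonempty X := ⟨x⟩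
  have : Nonempty (IrreducibleCloseds X) :=
    ⟨⟨closure {x}, isIrreducible_singleton.closure, isClosed_closure⟩⟩
  have h0 : topologicalKrullDim X = 0 := le_antisymm hX Order.krullDim_nonneg
  obtain ⟨-, hd⟩ := (Groth.Agent.S5794.result X).1 h0
  obtain ⟨U, hU, hxU, hle⟩ := exists_isAffineOpen_mem_and_subset (X := X) (x := x)
    (U := ⟨{x}, isOpen_discrete _⟩) rfl
  refine ⟨U, hU, hxU, ?_⟩
  exact Set.Subset.antisymm hle (Set.singleton_subset_iff.2 hxU)

end K124.SepArtin
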